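import Mathlib
import Cfsg.Agent.Spor.Fi23.Main

/-! Generated by tools/pg: subgroups of Fi23 -/

set_option autoImplicit false
set_option maxRecDepth 100000
set_option linter.unusedVariables false
set_option exponentiation.threshold 100000

namespace Cfsg.Agent.Spor.MFi23

open Cfsg.Agent.Spor

theorem cardEq10 : Nat.card (genLt g 10) = 4089470473293004800 := by rw [top, Subgroup.card_top, card]

theorem idxEq10 : (genLt g 9).relIndex (genLt g 10) = 31671 :=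
  (exact_of_card (genLt_mono g (by decide)) cardEq10 idx10 ub9).1

theorem cardEq9 : Nat.card (genLt g 9) = 129123503308800 :=
  (exact_of_card (genLt_mono g (by decide)) cardEq10 idx10 ub9).2

theorem idxEq9 : (genLt g 8).relIndex (genLt g 9) = 14080 :=
  (exact_of_card (genLt_mono g (by decide)) cardEq9 idx9 ub8).1

theorem cardEq8 : Nat.card (genLt g 8) = 9170703360 :=
  (exact_of_card (genLt_mono g (by decide)) cardEq9 idx9 ub8).2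

theorem idxEq8 : (genLt g 7).relIndex (genLt g 8) = 728 :=
  (exact_of_card (genLt_mono g (by decide)) cardEq8 idx8 ub7).1

theorem cardEq7 : Nat.card (genLt g 7) = 12597120 :=
  (exact_of_card (genLt_mono g (by decide)) cardEq8 idx8 ub7).2

theorem idxEq7 : (genLt g 6).relIndex (genLt g 7) = 243 :=
  (exact_of_card (genLt_mono g (by decide)) cardEq7 idx7 ub6).1

theorem cardEq6 : Nat.card (genLt g 6) = 51840 :=
  (exact_of_card (genLt_mono g (by decide)) cardEq7 idx7 ub6).2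

theorem idxEq6 : (genLt g 5).relIndex (genLt g 6) = 27 :=
  (exact_of_card (genLt_mono g (by decide)) cardEq6 idx6 ub5).1

theorem cardEq5 : Nat.card (genLt g 5) = 1920 :=
  (exact_of_card (genLt_mono g (by decide)) cardEq6 idx6 ub5).2

theorem idxEq5 : (genLt g 4).relIndex (genLt g 5) = 10 :=
  (exact_of_card (genLt_mono g (by decide)) cardEq5 idx5 ub4).1

theorem cardEq4 : Nat.card (genLt g 4) = 192 :=
  (exact_of_card (genLt_mono g (by decide)) cardEq5 idx5 ub4).2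

theorem idxEq4 : (genLt g 3).relIndex (genLt g 4) = 8 :=
  (exact_of_card (genLt_mono g (by decide)) cardEq4 idx4 ub3).1

theorem cardEq3 : Nat.card (genLt g 3) = 24 :=
  (exact_of_card (genLt_mono g (by decide)) cardEq4 idx4 ub3).2

theorem idxEq3 : (genLt g 2).relIndex (genLt g 3) = 4 :=
  (exact_of_card (genLt_mono g (by decide)) cardEq3 idx3 ub2).1

theorem cardEq2 : Nat.card (genLt g 2) = 6 :=
  (exact_of_card (genLt_mono g (by decide)) cardEq3 idx3 ub2).2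

theorem idxEq2 : (genLt g 1).relIndex (genLt g 2) = 3 :=
  (exact_of_card (genLt_mono g (by decide)) cardEq2 idx2 ub1).1

theorem cardEq1 : Nat.card (genLt g 1) = 2 :=
  (exact_of_card (genLt_mono g (by decide)) cardEq2 idx2 ub1).2

theorem idxEq1 : (genLt g 0).relIndex (genLt g 1) = 2 :=
  (exact_of_card (genLt_mono g (by decide)) cardEq1 idx1 ub0).1

theorem cardEq0 : Nat.card (genLt g 0) = 1 :=
  (exact_of_card (genLt_mono g (by decide)) cardEq1 idx1 ub0).2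

theorem H_eq : (Subgroup.closure {Cfsg.Spor.Fi23.a, Cfsg.Spor.Fi23.b, Cfsg.Spor.Fi23.c, Cfsg.Spor.Fi23.d, Cfsg.Spor.Fi23.e, Cfsg.Spor.Fi23.f, Cfsg.Spor.Fi23.g, Cfsg.Spor.Fi23.h, Cfsg.Spor.Fi23.i}).map
    (PresentedGroup.mk (Cfsg.Spor.coxRelators Cfsg.Spor.Fi23.edges ∪ {r | r ∈ Cfsg.Spor.Fi23.extra})) = H := H_eq0.trans H_eq_k.symm

theorem centralizer_eq : Subgroup.centralizer {z} = H := by
  have h1 := tabs0.le_centralizer baseg (by decide +kernel) (a := [4, 1, 0, 3, 6, 7, 2, 4, 1, 0, 3, 6, 7, 2, 4, 1, 0, 3, 6, 7, 2, 4, 1, 0, 3, 6, 7, 2, 4, 1, 0, 3, 6, 7, 2, 4, 1, 0, 3, 6, 7, 2, 4, 1, 0, 3, 6, 7, 2, 4, 1, 0, 3, 6, 7, 2, 4, 1, 0, 3, 6, 7, 2]) (ws := Hw) (r := 9) (by decide +kernel)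
  have h2 := tabs0.ne (finE_injOn 31671) (v := appL [4, 1, 0, 3, 6, 7, 2, 4, 1, 0, 3, 6, 7, 2, 4, 1, 0, 3, 6, 7, 2, 4, 1, 0, 3, 6, 7, 2, 4, 1, 0, 3, 6, 7, 2, 4, 1, 0, 3, 6, 7, 2, 4, 1, 0, 3, 6, 7, 2, 4, 1, 0, 3, 6, 7, 2, 4, 1, 0, 3, 6, 7, 2] [9]) (w := appL [9] [4, 1, 0, 3, 6, 7, 2, 4, 1, 0, 3, 6, 7, 2, 4, 1, 0, 3, 6, 7, 2, 4, 1, 0, 3, 6, 7, 2, 4, 1, 0, 3, 6, 7, 2, 4, 1, 0, 3, 6, 7, 2, 4, 1, 0, 3, 6, 7, 2, 4, 1, 0, 3, 6, 7, 2, 4, 1, 0, 3, 6, 7, 2]) (i := 0) (by decide) (by decide +kernel)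
  rw [evalW_appL, evalW_appL] at h2
  exact centralizer_eq_of_maximal maximal h1 h2

theorem centralizer_stab : Subgroup.centralizer {z} = MulAction.stabilizer Cfsg.Spor.Fi23 ((finE 31671) 0) :=
  centralizer_eq.trans levelH.eq_stabilizer

theorem card_class_z : Nat.card (conjugatesOf z) = 31671 := by rw [card_conjugatesOf, centralizer_eq, levelH.index]

/-- Representatives of the suborbits. -/
theorem cover_u (y : Cfsg.Spor.Fi23) : ∃ u ∈ ({evalW k [], evalW k [9, 7, 6, 3, 0, 2, 1, 0, 3, 6, 7, 9], evalW k [9]} : Set Cfsg.Spor.Fi23),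
    ∃ c ∈ MulAction.stabilizer Cfsg.Spor.Fi23 ((finE 31671) 0), c • u • (finE 31671) 0 = y • (finE 31671) 0 :=
  cover_reps levelH (fun y => ⟨_, (y • (finE 31671) 0).2, (finE_coe _).symm⟩) cover (by
    simp only [List.mem_cons, List.not_mem_nil, or_false, forall_eq_or_imp, forall_eq]
    exact ⟨⟨_, by simp, one_smul _ _⟩, ⟨_, by simp, u1_smul⟩, ⟨_, by simp, u2_smul⟩⟩) y

theorem z_sq : z * z = 1 := by
  have h := tabs0.eq_one_of_base baseg (by decide +kernel) (w := appL [4, 1, 0, 3, 6, 7, 2, 4, 1, 0, 3, 6, 7, 2, 4, 1, 0, 3, 6, 7, 2, 4, 1, 0, 3, 6, 7, 2, 4, 1, 0, 3, 6, 7, 2, 4, 1, 0, 3, 6, 7, 2, 4, 1, 0, 3, 6, 7, 2, 4, 1, 0, 3, 6, 7, 2, 4, 1, 0, 3, 6, 7, 2] [4, 1, 0, 3, 6, 7, 2, 4, 1, 0, 3, 6, 7, 2, 4, 1, 0, 3, 6, 7, 2, 4, 1, 0, 3, 6, 7, 2, 4, 1, 0, 3, 6, 7, 2, 4, 1, 0, 3, 6, 7, 2, 4, 1, 0, 3, 6, 7, 2, 4, 1, 0, 3, 6, 7, 2, 4, 1, 0, 3, 6, 7, 2]) (by decide +kernel)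
  rwa [evalW_appL] at h

theorem orderOf_z : orderOf z = 2 := orderOf_eq_two z_sq (ne_one_of_smul_ne z_smul)

theorem threeTransp_z : Cfsg.IsThreeTranspositionSet (conjugatesOf z) := by
  refine threeTransp_of_cover centralizer_stab orderOf_z cover_u ?_
  have h := tabs.conj_pow_eq_one basek kinv [4, 1, 0, 3, 6, 7, 2, 4, 1, 0, 3, 6, 7, 2, 4, 1, 0, 3, 6, 7, 2, 4, 1, 0, 3, 6, 7, 2, 4, 1, 0, 3, 6, 7, 2, 4, 1, 0, 3, 6, 7, 2, 4, 1, 0, 3, 6, 7, 2, 4, 1, 0, 3, 6, 7, 2, 4, 1, 0, 3, 6, 7, 2]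
  simp only [Set.mem_insert_iff, Set.mem_singleton_iff, forall_eq_or_imp, forall_eq]
  exact ⟨Or.inl (h [] 2 (by decide +kernel)), Or.inl (h [9, 7, 6, 3, 0, 2, 1, 0, 3, 6, 7, 9] 2 (by decide +kernel)), Or.inr (h [9] 3 (by decide +kernel))⟩

theorem threeClass_z : Cfsg.IsThreeTranspositionClass (conjugatesOf z) :=
  ⟨threeTransp_z, ⟨_, mem_conjugatesOf_self, rfl⟩, closure_conjugatesOf_eq_top (ne_one_of_smul_ne z_smul)⟩

/-- The generator `a` is conjugate to `z`. -/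
theorem conj_z : evalW g [4, 1, 0, 3, 6, 7, 9, 8, 2, 0, 3, 6, 7, 1, 0, 3, 6, 2, 0, 1, 4, 3, 0, 2, 1, 0, 3, 6, 7, 9] * z * (evalW g [4, 1, 0, 3, 6, 7, 9, 8, 2, 0, 3, 6, 7, 1, 0, 3, 6, 2, 0, 1, 4, 3, 0, 2, 1, 0, 3, 6, 7, 9])⁻¹ = g 8 := by
  have h := tabs0.eq_of_base baseg (by decide +kernel) (v := conjW inv [4, 1, 0, 3, 6, 7, 9, 8, 2, 0, 3, 6, 7, 1, 0, 3, 6, 2, 0, 1, 4, 3, 0, 2, 1, 0, 3, 6, 7, 9] [4, 1, 0, 3, 6, 7, 2, 4, 1, 0, 3, 6, 7, 2, 4, 1, 0, 3, 6, 7, 2, 4, 1, 0, 3, 6, 7, 2, 4, 1, 0, 3, 6, 7, 2, 4, 1, 0, 3, 6, 7, 2, 4, 1, 0, 3, 6, 7, 2, 4, 1, 0, 3, 6, 7, 2, 4, 1, 0, 3, 6, 7, 2]) (w := [8]) (by decide +kernel)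
  rw [evalW_conjW hinv (by decide +kernel), evalW_cons g 8, evalW_nil, mul_one] at h
  exact h

theorem class_eq : conjugatesOf z = conjugatesOf (g 8) := (isConj_iff.2 ⟨_, conj_z⟩).conjugatesOf_eq

theorem threeClass : Cfsg.IsThreeTranspositionClass (conjugatesOf (g 8)) := class_eq ▸ threeClass_z

theorem card_class : Nat.card (conjugatesOf (g 8)) = 31671 := class_eq ▸ card_class_z

end Cfsg.Agent.Spor.MFi23
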