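import Mathlib
import Cfsg.Agent.Spor.Fi23.RepC0
import Cfsg.Agent.Spor.Fi23.RepC1
import Cfsg.Agent.Spor.Fi23.RepC2
import Cfsg.Agent.Spor.Fi23.RepC3
import Cfsg.Agent.Spor.Fi23.RepC4
import Cfsg.Agent.Spor.Fi23.RepC5
import Cfsg.Agent.Spor.Fi23.RepC6

/-! Generated by tools/pg: the action of Fi23 on 31671 points -/

set_option autoImplicit false
set_option maxRecDepth 100000
set_option linter.unusedVariables false
set_option exponentiation.threshold 100000

namespace Cfsg.Agent.Spor.MFi23

open Cfsg.Agent.Spor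


theorem invc : allRange (nat_lit 0) (nat_lit 31671) (fun i => allLt (nat_lit 10) fun x => band (blt (S x i) (nat_lit 31671)) (Nat.beq (S (inv x) (S x i)) i)) = true := (allRange_join (allRange_join (allRange_join (allRange_join (allRange_join (allRange_join invc_0 invc_1) invc_2) invc_3) invc_4) invc_5) invc_6)

theorem hinvS : ∀ x < 10, invOK 31671 (S x) (S (inv x)) = true := invOK_of_range invc

theorem tabsP : Tabs (finE 31671) 31671 S (fun x => permOf 31671 (S x)) 10 := tabs_permOf hinvS

theorem relS : ∀ i, evalW (fun x => permOf 31671 (S x)) (Rs.get i) = 1 :=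
  tabsP.rels_of_fixUpto (fun a _ h => finE_faithful a h) (by decide +kernel) ((((((((((((((((((((((((((((((((((((((((((((((fixUpto_zero S Rs).step _ rs0).step _ rs1).step _ rs2).step _ rs3).step _ rs4).step _ rs5).step _ rs6).step _ rs7).step _ rs8).step _ rs9).step _ rs10).step _ rs11).step _ rs12).step _ rs13).step _ rs14).step _ rs15).step _ rs16).step _ rs17).step _ rs18).step _ rs19).step _ rs20).step _ rs21).step _ rs22).step _ rs23).step _ rs24).step _ rs25).step _ rs26).step _ rs27).step _ rs28).step _ rs29).step _ rs30).step _ rs31).step _ rs32).step _ rs33).step _ rs34).step _ rs35).step _ rs36).step _ rs37).step _ rs38).step _ rs39).step _ rs40).step _ rs41).step _ rs42).step _ rs43).step _ rs44)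

theorem fa0 : allRange (nat_lit 0) (nat_lit 31671) (fun i => Nat.beq (traceP S [nat_lit 0,nat_lit 1,nat_lit 4,nat_lit 0,nat_lit 3,nat_lit 6,nat_lit 0,nat_lit 2,nat_lit 5] i) (F0 i)) = true := (allRange_join (allRange_join fa0_0 fa0_1) fa0_2)
theorem fb0 : allRange (nat_lit 0) (nat_lit 31671) (fun i => Nat.beq (traceP S [] (iterT F0 (nat_lit 10) i)) i) = true := (allRange_join (allRange_join fb0_0 fb0_1) fb0_2)
theorem relL0 : evalW (fun x => permOf 31671 (S x)) (appL [] (powW 10 [0, 1, 4, 0, 3, 6, 0, 2, 5])) = 1 :=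
  tabsP.pow_rel (fun a _ h => finE_faithful a h) (by decide +kernel) fa0 fb0

theorem fa1 : allRange (nat_lit 0) (nat_lit 31671) (fun i => Nat.beq (traceP S [nat_lit 8,nat_lit 4,nat_lit 1,nat_lit 0,nat_lit 3,nat_lit 6,nat_lit 2] i) (F1 i)) = true := (allRange_join fa1_0 fa1_1)
theorem fb1 : allRange (nat_lit 0) (nat_lit 31671) (fun i => Nat.beq (traceP S [] (iterT F1 (nat_lit 9) i)) i) = true := (allRange_join fb1_0 fb1_1)
theorem relL1 : evalW (fun x => permOf 31671 (S x)) (appL [] (powW 9 [8, 4, 1, 0, 3, 6, 2])) = 1 :=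
  tabsP.pow_rel (fun a _ h => finE_faithful a h) (by decide +kernel) fa1 fb1

theorem exHom : ∃ φ : Cfsg.Spor.Fi23 →* Equiv.Perm (Fin 31671), ∀ x < 10, φ (g x) = permOf 31671 (S x) :=
  exists_presHom hL (t := (LT.node (LT.node (LT.node Rp Rs) (.leaf (appL [] (powW 10 [0, 1, 4, 0, 3, 6, 0, 2, 5])))) (.leaf (appL [] (powW 9 [8, 4, 1, 0, 3, 6, 2])))))
    (LT.forall_node (P := fun w => evalW _ w = 1) (LT.forall_node (P := fun w => evalW _ w = 1) (LT.forall_node (P := fun w => evalW _ w = 1) (pairs_rel hinvS (by decide +kernel)) relS) (fun _ => relL0)) (fun _ => relL1))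
    (by decide +kernel) (by decide +kernel) (by decide +kernel)

/-- The permutation representation of degree 31671. -/
noncomputable def phi : Cfsg.Spor.Fi23 →* Equiv.Perm (Fin 31671) := exHom.choose

/-- The action on 31671 points. -/
noncomputable instance act : MulAction Cfsg.Spor.Fi23 (Fin 31671) := MulAction.compHom _ phi

theorem smul_def (y : Cfsg.Spor.Fi23) (i : Fin 31671) : y • i = phi y i := rfl

/-- The generators act by the tables `S`. -/
theorem tabs0 : Tabs (finE 31671) 31671 S g 10 := tabs_compHom phi tabsP exHom.choose_spec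

end Cfsg.Agent.Spor.MFi23
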