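import Mathlib
import Cfsg.Agent.Spor.Fi23.Pres
import Cfsg.Agent.Spor.Fi23.U9
import Cfsg.Agent.Spor.Fi23.U10
import Cfsg.Agent.Spor.Fi23.U

/-! Generated by tools/pg: upper bounds for the orders in Fi23 -/

set_option autoImplicit false
set_option maxRecDepth 100000
set_option linter.unusedVariables false
set_option exponentiation.threshold 100000

namespace Cfsg.Agent.Spor.MFi23

open Cfsg.Agent.Spor

theorem ub0 : Nat.card (genLt g 0) ≠ 0 ∧ Nat.card (genLt g 0) ≤ 1 := by rw [card_genLt_zero]; decide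

theorem idx1 : (genLt g 0).relIndex (genLt g 1) ≠ 0 ∧ (genLt g 0).relIndex (genLt g 1) ≤ 2 :=
  u1_bound (presG_hinv (by decide +kernel))
    (hrels_of_relTest (m := 1) (inv := u1_inv) (presG_hinv (by decide +kernel)) hW (by decide +kernel))
    (fun _ => mem_genLt g) (leaf_nil_mem _ _)

theorem ub1 : Nat.card (genLt g 1) ≠ 0 ∧ Nat.card (genLt g 1) ≤ 2 :=
  card_le_of_relIndex (genLt_mono g (by decide)) idx1 ub0

theorem idx2 : (genLt g 1).relIndex (genLt g 2) ≠ 0 ∧ (genLt g 1).relIndex (genLt g 2) ≤ 3 :=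
  u2_bound (presG_hinv (by decide +kernel))
    (hrels_of_relTest (m := 2) (inv := u2_inv) (presG_hinv (by decide +kernel)) hW (by decide +kernel))
    (fun _ => mem_genLt g) (leaf_nil_mem _ _)

theorem ub2 : Nat.card (genLt g 2) ≠ 0 ∧ Nat.card (genLt g 2) ≤ 6 :=
  card_le_of_relIndex (genLt_mono g (by decide)) idx2 ub1

theorem idx3 : (genLt g 2).relIndex (genLt g 3) ≠ 0 ∧ (genLt g 2).relIndex (genLt g 3) ≤ 4 :=
  u3_bound (presG_hinv (by decide +kernel))
    (hrels_of_relTest (m := 3) (inv := u3_inv) (presG_hinv (by decide +kernel)) hW (by decide +kernel))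
    (fun _ => mem_genLt g) (leaf_nil_mem _ _)

theorem ub3 : Nat.card (genLt g 3) ≠ 0 ∧ Nat.card (genLt g 3) ≤ 24 :=
  card_le_of_relIndex (genLt_mono g (by decide)) idx3 ub2

theorem idx4 : (genLt g 3).relIndex (genLt g 4) ≠ 0 ∧ (genLt g 3).relIndex (genLt g 4) ≤ 8 :=
  u4_bound (presG_hinv (by decide +kernel))
    (hrels_of_relTest (m := 4) (inv := u4_inv) (presG_hinv (by decide +kernel)) hW (by decide +kernel))
    (fun _ => mem_genLt g) (leaf_nil_mem _ _)

theorem ub4 : Nat.card (genLt g 4) ≠ 0 ∧ Nat.card (genLt g 4) ≤ 192 :=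
  card_le_of_relIndex (genLt_mono g (by decide)) idx4 ub3

theorem idx5 : (genLt g 4).relIndex (genLt g 5) ≠ 0 ∧ (genLt g 4).relIndex (genLt g 5) ≤ 10 :=
  u5_bound (presG_hinv (by decide +kernel))
    (hrels_of_relTest (m := 5) (inv := u5_inv) (presG_hinv (by decide +kernel)) hW (by decide +kernel))
    (fun _ => mem_genLt g) (leaf_nil_mem _ _)

theorem ub5 : Nat.card (genLt g 5) ≠ 0 ∧ Nat.card (genLt g 5) ≤ 1920 :=
  card_le_of_relIndex (genLt_mono g (by decide)) idx5 ub4

theorem idx6 : (genLt g 5).relIndex (genLt g 6) ≠ 0 ∧ (genLt g 5).relIndex (genLt g 6) ≤ 27 :=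
  u6_bound (presG_hinv (by decide +kernel))
    (hrels_of_relTest (m := 6) (inv := u6_inv) (presG_hinv (by decide +kernel)) hW (by decide +kernel))
    (fun _ => mem_genLt g) (leaf_nil_mem _ _)

theorem ub6 : Nat.card (genLt g 6) ≠ 0 ∧ Nat.card (genLt g 6) ≤ 51840 :=
  card_le_of_relIndex (genLt_mono g (by decide)) idx6 ub5

theorem idx7 : (genLt g 6).relIndex (genLt g 7) ≠ 0 ∧ (genLt g 6).relIndex (genLt g 7) ≤ 243 :=
  u7_bound (presG_hinv (by decide +kernel))
    (hrels_of_relTest (m := 7) (inv := u7_inv) (presG_hinv (by decide +kernel)) hW (by decide +kernel))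
    (fun _ => mem_genLt g) (leaf_nil_mem _ _)

theorem ub7 : Nat.card (genLt g 7) ≠ 0 ∧ Nat.card (genLt g 7) ≤ 12597120 :=
  card_le_of_relIndex (genLt_mono g (by decide)) idx7 ub6

theorem idx8 : (genLt g 7).relIndex (genLt g 8) ≠ 0 ∧ (genLt g 7).relIndex (genLt g 8) ≤ 728 :=
  u8_bound (presG_hinv (by decide +kernel))
    (hrels_of_relTest (m := 8) (inv := u8_inv) (presG_hinv (by decide +kernel)) hW (by decide +kernel))
    (fun _ => mem_genLt g) (leaf_nil_mem _ _)

theorem ub8 : Nat.card (genLt g 8) ≠ 0 ∧ Nat.card (genLt g 8) ≤ 9170703360 :=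
  card_le_of_relIndex (genLt_mono g (by decide)) idx8 ub7

theorem idx9 : (genLt g 8).relIndex (genLt g 9) ≠ 0 ∧ (genLt g 8).relIndex (genLt g 9) ≤ 14080 :=
  u9_bound (presG_hinv (by decide +kernel))
    (hrels_of_relTest (m := 9) (inv := u9_inv) (presG_hinv (by decide +kernel)) hW (by decide +kernel))
    (fun _ => mem_genLt g) (leaf_nil_mem _ _)

theorem ub9 : Nat.card (genLt g 9) ≠ 0 ∧ Nat.card (genLt g 9) ≤ 129123503308800 :=
  card_le_of_relIndex (genLt_mono g (by decide)) idx9 ub8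

theorem idx10 : (genLt g 9).relIndex (genLt g 10) ≠ 0 ∧ (genLt g 9).relIndex (genLt g 10) ≤ 31671 :=
  u10_bound (presG_hinv (by decide +kernel))
    (hrels_of_relTest (m := 10) (inv := u10_inv) (presG_hinv (by decide +kernel)) hW (by decide +kernel))
    (fun _ => mem_genLt g) (leaf_nil_mem _ _)

theorem ub10 : Nat.card (genLt g 10) ≠ 0 ∧ Nat.card (genLt g 10) ≤ 4089470473293004800 :=
  card_le_of_relIndex (genLt_mono g (by decide)) idx10 ub9


end Cfsg.Agent.Spor.MFi23
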